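import Cfsg.Agent.H894.PQ.Tools
import Cfsg.Agent.H642.PQ.Full
import Cfsg.Agent.H990.PQ.Core
import Cfsg.Agent.H968.Rat.RowMathieu
import Cfsg.Agent.H567.Dl.Mathieu
import Cfsg.Agent.H603.FD.Spor
import Cfsg.Agent.H180.MElFix
import Cfsg.Agent.H715.Fpr.MathData
import Cfsg.Agent.H417.RecogMathieu

/-!
# S4612: the rows of the Mathieu groups `M22`, `M23`, `M24` (helper968)

* `NB 2 1`: an element of order 8 of `M22` has a centralizer of order 16 in `M24`;
* `M22`: degrees `21, 45, 55, 99, 154`; `M23`: `22, 45, 230, 231, 896, 1035`, and `231` is in the principal 5-block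
  (value `6` at the elements of order 3);
* `M24`: `5544, 1771` are in the principal 5-block, `1035` in the principal 7-block; the values `-1` at the elements
  of order 5, 7 exclude `5544`, `1035` from the principal 3-block.
-/

set_option autoImplicit false
set_option maxRecDepth 100000

open Cfsg Subgroup

namespace Cfsg.Agent.H968.PQ.Mathieu

open Cfsg.Agent.H317.PQ Cfsg.Agent.H709.PB Cfsg.Agent.H894.PQ Cfsg.Agent.Characters.Core Cfsg.Agent.Blocks.Basic
open Cfsg.Agent.SporadicA.GolayBase Cfsg.Agent.SporadicA.GolayPerm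
open Cfsg.Agent.SporadicStructure.M24El Cfsg.Agent.H729.Trans Cfsg.Agent.H729.MData Cfsg.Agent.H729.Count

universe u

/-! ### the tests -/

/-- the test -/
def tst (n d p a q b : ℕ) : Bool :=
  decide (b ≠ 0) && (decide (d % p ^ a ≠ 0) && (decide (d % q ^ b = 0) && (decide (n % q ^ b = 0) &&
    decide (n % q ^ (b + 1) ≠ 0))))

theorem kl {G : Type u} [Group G] [Finite G] {n d p q a b : ℕ} (hn : Nat.card G = n)
    (hd : ∃ χ : IrrCharacter G, charDegree (χ : G → ℂ) = d) (hp : p.Prime) (hq : q.Prime)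
    (h : NB p a G) (ht : tst n d p a q b = true) : ¬ Same p q G := by
  obtain ⟨χ, hχ⟩ := hd
  simp only [tst, Bool.and_eq_true, decide_eq_true_eq] at ht
  obtain ⟨h1, h2, h3, h4, h5⟩ := ht
  exact kill hp hq h hχ (fun h6 => h2 (Nat.mod_eq_zero_of_dvd h6)) h1 (Nat.dvd_of_mod_eq_zero h3)
    (by rw [hn]; exact Nat.dvd_of_mod_eq_zero h4) (by rw [hn]; exact fun h6 => h5 (Nat.mod_eq_zero_of_dvd h6))

theorem mem_of_nb {G : Type u} [Group G] [Finite G] {p a : ℕ} (hp : p.Prime) (h : NB p a G) {χ : IrrCharacter G}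
    (hd : ¬ p ^ a ∣ charDegree (χ : G → ℂ)) : χ ∈ B0 p G := by
  obtain ⟨M, hM⟩ := Blocks.ExistsModular.exists_isPModular hp
  rw [B0_eq hp hM]
  by_contra h3
  exact hd (h M hM χ h3)

/-- the test with a member of the principal `p`-block of `q`-defect zero -/
theorem kl_mem {G : Type u} [Group G] [Finite G] {n d p q b : ℕ} (hn : Nat.card G = n) {χ : IrrCharacter G}
    (hχ : χ ∈ B0 p G) (hd : charDegree (χ : G → ℂ) = d) (hq : q.Prime)
    (ht : (decide (b ≠ 0) && (decide (d % q ^ b = 0) && (decide (n % q ^ b = 0) &&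
      decide (n % q ^ (b + 1) ≠ 0)))) = true) : ¬ Same p q G := by
  simp only [Bool.and_eq_true, decide_eq_true_eq] at ht
  obtain ⟨h1, h3, h4, h5⟩ := ht
  refine H642.PQ.not_same_of_mem hχ fun h => ?_
  have hq1 : q ∣ Nat.card G := by
    rw [hn]
    exact (dvd_pow_self q h1).trans (Nat.dvd_of_mod_eq_zero h4)
  have h6 := H766.PQ.not_defect_zero hq hq1 h
  rw [hd, hn] at h6
  have hd0 : d ≠ 0 := by
    rintro rfl
    exact irr_one_ne_zero χ.2 (by rw [irr_one_eq_charDegree χ.2, hd, Nat.cast_zero])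
  have hn0 : n ≠ 0 := hn ▸ Nat.card_pos.ne'
  have h7 := (hq.pow_dvd_iff_le_factorization hd0).1 (Nat.dvd_of_mod_eq_zero h3)
  have h8 : ¬ b + 1 ≤ n.factorization q := fun h9 =>
    h5 (Nat.mod_eq_zero_of_dvd ((hq.pow_dvd_iff_le_factorization hn0).2 h9))
  omega

/-- the test with a class -/
theorem not_mem_of_class {G : Type u} [Group G] [Finite G] {n m q : ℕ} {d v c : ℤ} (hn : Nat.card G = n) (hq : q.Prime)
    {χ : IrrCharacter G} {g : G} (hd : (χ : G → ℂ) 1 = d) (hv : (χ : G → ℂ) g = v)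
    (hC : Nat.card (centralizer ({g} : Set G)) = m) (hc : (m : ℤ) * (c * d) = n * (d - v)) (hm : m ≠ 0)
    (hqc : ¬ (q : ℤ) ∣ c) : χ ∉ B0 q G := by
  intro h
  refine hqc (H766.PQ.class_test hq h g hd hv ?_)
  have h1 : m * (centralizer ({g} : Set G)).index = n := by rw [← hC, ← hn, card_mul_index]
  have h2 : (m : ℤ) * (centralizer ({g} : Set G)).index = n := by exact_mod_cast h1
  have h3 : (m : ℤ) ≠ 0 := by exact_mod_cast hm
  refine mul_left_cancel₀ h3 ?_
  rw [hc, ← h2]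
  ring

theorem nb_of_card {G : Type u} [Group G] [Finite G] {q : ℕ} (hq : q.Prime) (hd : q ∣ Nat.card G)
    (hd' : ¬ q ^ 2 ∣ Nat.card G)
    (h : ∀ R : Subgroup G, Nat.card R = q → Nat.card (centralizer (R : Set G)) = q) : NB q 1 G := by
  have : Fact q.Prime := ⟨hq⟩
  obtain ⟨P⟩ : Nonempty (Sylow q G) := inferInstance
  have hP : Nat.card (P : Subgroup G) = q := SmallSimple.Simple168Max.card_sylow_eq_prime P hd hd'
  exact NB.of_sylow P (IsPGroup.of_card (n := 1) (by rw [h _ hP, pow_one]))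

theorem core {G : Type u} [Group G] [Finite G] {p q m : ℕ} (hp : p.Prime) (hq : q.Prime) (hpq : p ≠ q)
    (h : Same p q G) (hd : p ∣ Nat.card G) (hd' : ¬ p ^ 2 ∣ Nat.card G)
    (hC : ∀ R : Subgroup G, Nat.card R = p → Nat.card (centralizer (R : Set G)) = m) (hm : q ∣ m) : False := by
  have : Fact p.Prime := ⟨hp⟩
  obtain ⟨P⟩ : Nonempty (Sylow p G) := inferInstance
  have hP : Nat.card (P : Subgroup G) = p := SmallSimple.Simple168Max.card_sylow_eq_prime P hd hd'
  exact H990.PQ.Same.core_sylow hp hq hpq h (P : Subgroup G) P.2 P.not_dvd_index (by rw [hC _ hP]; exact hm)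

theorem exists_ne_one {G : Type u} [Group G] {p : ℕ} (P : Sylow p G) (h : Nat.card (P : Subgroup G) ≠ 1) :
    ∃ x ∈ (P : Subgroup G), x ≠ 1 := by
  by_contra hc
  push Not at hc
  exact h (by rw [(Subgroup.eq_bot_iff_forall _).2 hc, Subgroup.card_bot])

theorem cent_eq {G : Type u} [Group G] {p : ℕ} (P : Sylow p G) (hP : Nat.card (P : Subgroup G) = p)
    (hp : p.Prime) {x : G} (hx : x ∈ (P : Subgroup G)) (hx1 : x ≠ 1) :
    Nat.card (centralizer ({x} : Set G)) = Nat.card (centralizer ((P : Subgroup G) : Set G)) := by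
  have h1 : zpowers x = (P : Subgroup G) := by
    have hfin : Finite (P : Subgroup G) := Nat.finite_of_card_ne_zero (by rw [hP]; exact hp.ne_zero)
    refine eq_of_le_of_card_ge (zpowers_le.2 hx) ?_
    rw [hP, Nat.card_zpowers]
    have h2 : orderOf x ∣ p := by rw [← hP]; exact Subgroup.orderOf_dvd_natCard _ hx
    rcases (Nat.dvd_prime hp).1 h2 with h3 | h3
    · exact absurd (orderOf_eq_one_iff.1 h3) hx1
    · rw [h3]
  rw [← h1, zpowers_eq_closure, centralizer_closure]

/-! ### an element of order 8 -/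

def c8 : ℕ := 977717809321436191683275634164027616

def wd8 : List (ℕ × ℕ) := [(4, 0), (0, 0), (1, 0), (3, 0), (2, 0), (3, 1), (0, 6), (0, 1), (0, 7), (0, 2), (1, 5),
  (1, 3), (2, 2), (2, 3), (1, 4), (1, 6), (1, 7), (0, 4), (2, 1), (1, 2), (1, 1), (0, 5), (0, 3), (5, 0)]

def st8 : List (ℕ × List ℕ × List (List (ℕ × ℕ))) := [(1, List.range 24, []),
  (2, List.range 24, [[(0, 0), (0, 2), (1, 5), (1, 3), (1, 4), (1, 6), (0, 5), (0, 3)]]),
  (4, List.range 24, [[(1, 0), (2, 0), (0, 7), (2, 3), (0, 4), (1, 1), (0, 5), (0, 3)]]),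
  (3, List.range 24, [[(0, 0), (1, 0), (3, 0), (0, 6), (0, 1), (2, 3), (1, 4), (1, 7)]]),
  (0, List.range 24, [[(4, 0), (0, 0), (2, 0), (0, 1), (1, 4), (1, 7), (0, 4), (1, 2)]]),
  (23, List.range 24, [])]

theorem pre8 : pre 8 c8 wd8 st8 = true := by decide +kernel

theorem pow8 : ((tl 8 c8 c8 wd8 st8).all fun P => Nat.beq (ppow P 8) idP) = true := by decide +kernel

theorem ok8 : ok c8 = true := ok_of_pre pre8

theorem nb_two {G : Type} [Group G] [Finite G] (φ : G →* M24) (hφ : Function.Injective φ) {x : G} (hx : φ x = el c8) :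
    NB 2 1 G := by
  have : Fact (Nat.Prime 2) := ⟨Nat.prime_two⟩
  have key : ∀ z : G, Commute z x → z ^ 8 = 1 := fun z hz =>
    H729.PairMathieu.pow_eq_one_of_list φ hφ pre8 hx (fun g => H729.M24Deg.st_triv (by decide +kernel) (φ g)) pow8 hz
  refine NB.of_self (g := x) ?_ ?_
  · rintro ⟨z, hz⟩
    refine ⟨3, Subtype.ext ?_⟩
    exact key z (mem_centralizer_singleton_iff.1 hz)
  · have h1 : orderOf x ∣ 2 ^ 3 := orderOf_dvd_of_pow_eq_one (key x (Commute.refl x))
    obtain ⟨k, -, hk⟩ := (Nat.dvd_prime_pow Nat.prime_two).1 h1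
    exact ⟨k, hk⟩

/-! ### `M22` -/

theorem row22 : Row Spor.M22 := by
  have hcard : Nat.card Spor.M22 = 443520 := H715.Fpr.MathData.card22
  have : Finite Spor.M22 := Nat.finite_of_card_ne_zero (by rw [hcard]; norm_num)
  obtain ⟨f, hf⟩ := H417.DegMTwentyTwo.exists_enum (H417.RecogMathieu.isM22 (⟨MulEquiv.refl _⟩ : Spor.IsoM22 Spor.M22))
  have d21 : ∃ χ : IrrCharacter Spor.M22, charDegree (χ : Spor.M22 → ℂ) = 21 := ⟨f 1, hf 1⟩
  have d45 : ∃ χ : IrrCharacter Spor.M22, charDegree (χ : Spor.M22 → ℂ) = 45 := ⟨f 2, hf 2⟩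
  have d55 : ∃ χ : IrrCharacter Spor.M22, charDegree (χ : Spor.M22 → ℂ) = 55 := ⟨f 4, hf 4⟩
  have d99 : ∃ χ : IrrCharacter Spor.M22, charDegree (χ : Spor.M22 → ℂ) = 99 := ⟨f 5, hf 5⟩
  have d154 : ∃ χ : IrrCharacter Spor.M22, charDegree (χ : Spor.M22 → ℂ) = 154 := ⟨f 6, hf 6⟩
  have n2 : NB 2 1 Spor.M22 := by
    obtain ⟨x, hx⟩ := H729.M22Deg.exists_el ok8 (by decide +kernel) (by decide +kernel)
    exact nb_two H729.M22Deg.inc H729.M22Deg.inc_injective hx
  have n3 : NB 3 1 Spor.M22 := by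
    have : Fact (Nat.Prime 3) := ⟨Nat.prime_three⟩
    obtain ⟨P⟩ : Nonempty (Sylow 3 Spor.M22) := inferInstance
    exact NB.of_sylow P (H968.Rat.cent_m22 P)
  have n5 : NB 5 1 Spor.M22 := nb_of_card (by norm_num) (by rw [hcard]; norm_num) (by rw [hcard]; norm_num)
    fun R hR => (H715.Fpr.MathData.cn22_5 hR).1
  have n7 : NB 7 1 Spor.M22 := nb_of_card (by norm_num) (by rw [hcard]; norm_num) (by rw [hcard]; norm_num)
    fun R hR => (H715.Fpr.MathData.cn22_7 hR).1
  apply Row.of_lt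
  intro p q hp hq hpq hpG hqG
  rw [hcard] at hpG hqG
  have hP := H852.IMMathieu.prime_cases hp [2, 2, 2, 2, 2, 2, 2, 3, 3, 5, 7, 11] (by decide) hpG (by decide)
  have hQ := H852.IMMathieu.prime_cases hq [2, 2, 2, 2, 2, 2, 2, 3, 3, 5, 7, 11] (by decide) hqG (by decide)
  have hP' : p = 2 ∨ p = 3 ∨ p = 5 ∨ p = 7 ∨ p = 11 := by
    simp only [List.mem_cons, List.not_mem_nil, or_false] at hP
    omega
  have hQ' : q = 2 ∨ q = 3 ∨ q = 5 ∨ q = 7 ∨ q = 11 := by
    simp only [List.mem_cons, List.not_mem_nil, or_false] at hQ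
    omega
  rcases hP' with rfl | rfl | rfl | rfl | rfl <;> rcases hQ' with rfl | rfl | rfl | rfl | rfl <;>
    first
      | (exfalso; revert hpq; decide)
      | skip
  · exact kl (b := 2) hcard d45 hp hq n2 (by decide +kernel)
  · exact kl (b := 1) hcard d55 hp hq n2 (by decide +kernel)
  · exact kl (b := 1) hcard d21 hp hq n2 (by decide +kernel)
  · exact kl (b := 1) hcard d55 hp hq n2 (by decide +kernel)
  · exact kl (b := 1) hcard d55 hp hq n3 (by decide +kernel)
  · exact kl (b := 1) hcard d154 hp hq n3 (by decide +kernel)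
  · exact kl (b := 1) hcard d55 hp hq n3 (by decide +kernel)
  · exact kl (b := 1) hcard d21 hp hq n5 (by decide +kernel)
  · exact kl (b := 1) hcard d99 hp hq n5 (by decide +kernel)
  · exact kl (b := 1) hcard d55 hp hq n7 (by decide +kernel)

/-- **The row of `M22`.** -/
theorem row_m22 {S : Type u} [Group S] (h : Cfsg.Spor.IsoM22 S) : Row S := by
  obtain ⟨e⟩ := h
  exact H766.PQ.Row.of_equiv e.symm row22

/-! ### `M23` -/

open Cfsg.Agent.H621.AltChar in
theorem nf_three (hd : ∀ g ∈ Spor.M23, ∀ x ∈ {x : GolayPt | x ≠ none}, g x ∈ {x : GolayPt | x ≠ none})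
    {x : Spor.M23} (hx : orderOf x = 3) :
    letI := H852.IMMathieu.actOn Spor.M23 {x : GolayPt | x ≠ none} hd
    nf {x : GolayPt | x ≠ none} x = 5 := by
  let _ := H852.IMMathieu.actOn Spor.M23 {x : GolayPt | x ≠ none} hd
  have h0 : (x : Equiv.Perm GolayPt) none = none := x.2.2
  have h1 : H866.InvolType.fx (x : Equiv.Perm GolayPt) = 6 := by
    rcases H180.MEl.fx3 x.2.1 (by rw [Subgroup.orderOf_coe, hx]) with h | h
    · exact h
    · exfalso
      unfold H866.InvolType.fx at h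
      rw [Finset.card_eq_zero] at h
      have h2 : (none : GolayPt) ∈ Finset.univ.filter fun p => (x : Equiv.Perm GolayPt) p = p :=
        Finset.mem_filter.2 ⟨Finset.mem_univ _, h0⟩
      rw [h] at h2
      exact absurd h2 (Finset.notMem_empty _)
  unfold nf
  have h2 : Nat.card (FF {x : GolayPt | x ≠ none} x) =
      Nat.card {p // p ∈ (Finset.univ.filter fun p => (x : Equiv.Perm GolayPt) p = p).erase none} := by
    refine Nat.card_congr ⟨fun a => ⟨a.1.1, ?_⟩, fun p => ⟨⟨p.1, ?_⟩, ?_⟩, fun a => rfl, fun p => rfl⟩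
    · exact Finset.mem_erase.2 ⟨a.1.2, Finset.mem_filter.2 ⟨Finset.mem_univ _, congrArg Subtype.val a.2⟩⟩
    · exact (Finset.mem_erase.1 p.2).1
    · exact Subtype.ext (Finset.mem_filter.1 (Finset.mem_erase.1 p.2).2).2
  have h3 : (none : GolayPt) ∈ Finset.univ.filter fun p => (x : Equiv.Perm GolayPt) p = p :=
    Finset.mem_filter.2 ⟨Finset.mem_univ _, h0⟩
  have h4 := Finset.card_erase_of_mem h3
  unfold H866.InvolType.fx at h1
  rw [h2, Nat.card_eq_fintype_card, Fintype.card_coe, h4, h1]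

open Cfsg.Agent.H621.AltChar in
theorem nu_three (hd : ∀ g ∈ Spor.M23, ∀ x ∈ {x : GolayPt | x ≠ none}, g x ∈ {x : GolayPt | x ≠ none})
    {x : Spor.M23} (hx : orderOf x = 3) :
    letI := H852.IMMathieu.actOn Spor.M23 {x : GolayPt | x ≠ none} hd
    nu {x : GolayPt | x ≠ none} x = 0 := by
  let _ := H852.IMMathieu.actOn Spor.M23 {x : GolayPt | x ≠ none} hd
  unfold nu
  have : IsEmpty (UU {x : GolayPt | x ≠ none} x) := by
    refine ⟨fun a => a.2.1 ?_⟩
    have h1 : x ^ 3 = 1 := by rw [← hx]; exact pow_orderOf_eq_one x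
    have h2 : x • x • x • a.1 = a.1 := by
      rw [smul_smul, smul_smul, mul_assoc, ← pow_two, ← pow_succ', h1, one_smul]
    have h3 : x • a.1 = x • x • x • a.1 := by rw [a.2.2]
    rw [h3, h2]
  exact Nat.card_of_isEmpty

theorem row23 : Row Spor.M23 := by
  have hcard : Nat.card Spor.M23 = 10200960 := H715.Fpr.MathData.card23
  have : Finite Spor.M23 := Nat.finite_of_card_ne_zero (by rw [hcard]; norm_num)
  obtain ⟨h230, h45, h1035, h896⟩ := H603.FD.Spor.m23
    (H417.RecogMathieu.isM23 (⟨MulEquiv.refl _⟩ : Spor.IsoM23 Spor.M23))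
  have d230 : ∃ χ : IrrCharacter Spor.M23, charDegree (χ : Spor.M23 → ℂ) = 230 := h230
  have d45 : ∃ χ : IrrCharacter Spor.M23, charDegree (χ : Spor.M23 → ℂ) = 45 := h45
  have d1035 : ∃ χ : IrrCharacter Spor.M23, charDegree (χ : Spor.M23 → ℂ) = 1035 := h1035
  have d896 : ∃ χ : IrrCharacter Spor.M23, charDegree (χ : Spor.M23 → ℂ) = 896 := h896
  obtain ⟨hinv, h4, hN⟩ := H701.PBMathieu.four_m23
  let _ := H852.IMMathieu.actOn Spor.M23 {x : GolayPt | x ≠ none} hinv
  have d22 : ∃ χ : IrrCharacter Spor.M23, charDegree (χ : Spor.M23 → ℂ) = 22 := by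
    obtain ⟨χ, hχ, -⟩ := H701.PBPerm.exists_four (G := Spor.M23) hN (by norm_num) h4 (d := 22) (by norm_num)
    exact ⟨χ, hχ⟩
  have hfin := Fintype.ofFinite Spor.M23
  let χ : IrrCharacter Spor.M23 := ⟨_, H621.AltChar.irr_b (G := Spor.M23) (Ω := {x : GolayPt | x ≠ none})
    (by rw [hN]; norm_num) h4⟩
  have hχ : ∀ g, (χ : Spor.M23 → ℂ) g = ((H621.AltChar.nf {x : GolayPt | x ≠ none} g : ℂ) ^ 2 -
    3 * H621.AltChar.nf {x : GolayPt | x ≠ none} g + 2 - H621.AltChar.nu {x : GolayPt | x ≠ none} g) / 2 := fun g => rfl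
  have hdχ : charDegree (χ : Spor.M23 → ℂ) = 231 := by
    apply Cfsg.Agent.Blocks.Basic.charDegree_of_eq
    rw [hχ, H621.AltChar.nf_one, H621.AltChar.nu_one, hN]
    norm_num
  have n2 : NB 2 1 Spor.M23 := by
    obtain ⟨x, hx⟩ := H715.Fpr.MathData.exists_el23 ok8 (by decide +kernel)
    exact nb_two H729.PairMathieu.inc23 H729.PairMathieu.inc23_injective hx
  have n3 : NB 3 1 Spor.M23 := by
    have : Fact (Nat.Prime 3) := ⟨Nat.prime_three⟩
    obtain ⟨P⟩ : Nonempty (Sylow 3 Spor.M23) := inferInstance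
    obtain ⟨U, hU, hC⟩ := H968.Rat.cent_m23
    exact NB.of_sylow P (H968.Rat.cent_sylow hU hC P)
  have n11 : NB 11 1 Spor.M23 := nb_of_card (by norm_num) (by rw [hcard]; norm_num) (by rw [hcard]; norm_num)
    fun R hR => (H715.Fpr.MathData.cn23_11 hR).1
  have n23 : NB 23 1 Spor.M23 := nb_of_card (by norm_num) (by rw [hcard]; norm_num) (by rw [hcard]; norm_num)
    fun R hR => (H715.Fpr.MathData.cn23_23 hR).1
  have hval : ∀ x : Spor.M23, orderOf x = 3 → (χ : Spor.M23 → ℂ) x = ((6 : ℤ) : ℂ) := by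
    intro x hx
    rw [hχ, nf_three hinv hx, nu_three hinv hx]
    norm_num
  have m5 : χ ∈ B0 5 Spor.M23 := by
    have h5 : Fact (Nat.Prime 5) := ⟨by norm_num⟩
    obtain ⟨P⟩ : Nonempty (Sylow 5 Spor.M23) := inferInstance
    have hP : Nat.card (P : Subgroup Spor.M23) = 5 := SmallSimple.Simple168Max.card_sylow_eq_prime P
      (by rw [hcard]; norm_num) (by rw [hcard]; norm_num)
    refine H642.PQ.mem_of_val (by norm_num) P.2 χ (by rw [hdχ]; norm_num) fun x hx h5x hx1 => ⟨6, hval x ?_, ?_⟩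
    · have h1 : orderOf x ∣ 15 := by
        rw [← (H715.Fpr.MathData.cn23_5 hP).1]
        exact Subgroup.orderOf_dvd_natCard _ hx
      have h2 : orderOf x ∈ Nat.divisors 15 := Nat.mem_divisors.2 ⟨h1, by norm_num⟩
      have h3 : ∀ n ∈ Nat.divisors 15, ¬ 5 ∣ n → n ≠ 1 → n = 3 := by decide
      exact h3 _ h2 h5x fun h4 => hx1 (orderOf_eq_one_iff.1 h4)
    · rw [hdχ]
      norm_num
  have d231 : ∃ χ : IrrCharacter Spor.M23, charDegree (χ : Spor.M23 → ℂ) = 231 := ⟨χ, hdχ⟩
  apply Row.of_lt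
  intro p q hp hq hpq hpG hqG
  rw [hcard] at hpG hqG
  have hP := H852.IMMathieu.prime_cases hp [2, 2, 2, 2, 2, 2, 2, 3, 3, 5, 7, 11, 23] (by decide) hpG (by decide)
  have hQ := H852.IMMathieu.prime_cases hq [2, 2, 2, 2, 2, 2, 2, 3, 3, 5, 7, 11, 23] (by decide) hqG (by decide)
  have hP' : p = 2 ∨ p = 3 ∨ p = 5 ∨ p = 7 ∨ p = 11 ∨ p = 23 := by
    simp only [List.mem_cons, List.not_mem_nil, or_false] at hP
    omega
  have hQ' : q = 2 ∨ q = 3 ∨ q = 5 ∨ q = 7 ∨ q = 11 ∨ q = 23 := by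
    simp only [List.mem_cons, List.not_mem_nil, or_false] at hQ
    omega
  rcases hP' with rfl | rfl | rfl | rfl | rfl | rfl <;> rcases hQ' with rfl | rfl | rfl | rfl | rfl | rfl <;>
    first
      | (exfalso; revert hpq; decide)
      | skip
  · exact kl (b := 2) hcard d45 hp hq n2 (by decide +kernel)
  · exact kl (b := 1) hcard d45 hp hq n2 (by decide +kernel)
  · exact kl (b := 1) hcard d231 hp hq n2 (by decide +kernel)
  · exact kl (b := 1) hcard d231 hp hq n2 (by decide +kernel)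
  · exact kl (b := 1) hcard d1035 hp hq n2 (by decide +kernel)
  · exact fun h => core hq hp (by norm_num) h.symm (by rw [hcard]; norm_num) (by rw [hcard]; norm_num)
      (fun R hR => (H715.Fpr.MathData.cn23_5 hR).1) (by norm_num)
  · exact kl (b := 1) hcard d896 hp hq n3 (by decide +kernel)
  · exact kl (b := 1) hcard d22 hp hq n3 (by decide +kernel)
  · exact kl (b := 1) hcard d230 hp hq n3 (by decide +kernel)
  · exact kl_mem (b := 1) hcard m5 hdχ hq (by decide +kernel)
  · exact fun h => kl (b := 1) hcard d45 hq hp n11 (by decide +kernel) h.symm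
  · exact fun h => kl (b := 1) hcard d45 hq hp n23 (by decide +kernel) h.symm
  · exact fun h => kl (b := 1) hcard d896 hq hp n11 (by decide +kernel) h.symm
  · exact fun h => kl (b := 1) hcard d231 hq hp n23 (by decide +kernel) h.symm
  · exact fun h => kl (b := 1) hcard d231 hq hp n23 (by decide +kernel) h.symm

/-- **The row of `M23`.** -/
theorem row_m23 {S : Type u} [Group S] (h : Cfsg.Spor.IsoM23 S) : Row S := by
  obtain ⟨e⟩ := h
  exact H766.PQ.Row.of_equiv e.symm row23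

/-! ### `M24` -/

theorem row24 : Row M24 := by
  have hcard : Nat.card M24 = 244823040 := H715.Fpr.MathData.card24
  have : Finite M24 := Nat.finite_of_card_ne_zero (by rw [hcard]; norm_num)
  have h24 := H417.RecogMathieu.isM24 (⟨MulEquiv.refl _⟩ : Spor.IsoM24 M24)
  have := h24.1
  obtain ⟨H⟩ := M24Order.Final.exists_hyp h24.2
  have : Fact (Nat.Prime 5) := ⟨by norm_num⟩
  have : Fact (Nat.Prime 7) := ⟨by norm_num⟩
  obtain ⟨R⟩ : Nonempty (Sylow 5 M24) := inferInstance
  obtain ⟨T⟩ : Nonempty (Sylow 7 M24) := inferInstance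
  have hR : Nat.card (R : Subgroup M24) = 5 := SmallSimple.Simple168Max.card_sylow_eq_prime R
    (by rw [hcard]; norm_num) (by rw [hcard]; norm_num)
  have hT : Nat.card (T : Subgroup M24) = 7 := SmallSimple.Simple168Max.card_sylow_eq_prime T
    (by rw [hcard]; norm_num) (by rw [hcard]; norm_num)
  obtain ⟨L, M, B, ε, a, b, c, d, h5, ⟨K', M', D, a', h7⟩ | ⟨K', M', B', ε', l', h7⟩⟩ :=
    SporadicA.M24.Convert.exists_blocks H R T
  swap
  · exact (S0422.six_false (SporadicA.M24.Convert.conv H) h5 h7).elim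
  obtain ⟨t, v, Θ, Θ', L⟩ := M24Order.ToLast.exists_last H h5 h7
  have d1771 : charDegree (c : M24 → ℂ) = 1771 := L.d1771
  have d5544 : charDegree (a : M24 → ℂ) = 5544 := L.d5544
  have d5796 : charDegree (d : M24 → ℂ) = 5796 := L.d5796
  have d990 : charDegree (Θ : M24 → ℂ) = 990 := L.d990
  have d1035 : charDegree (a' : M24 → ℂ) = 1035 := L.d1035
  have c5 : c ∈ B0 5 M24 := by
    rw [B0_eq (by norm_num) h5.loc.modular, h5.loc.mem_iff, h5.mem]
    simp
  have n2 : NB 2 1 M24 := nb_two (MonoidHom.id M24) Function.injective_id (x := el c8) rfl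
  have n11 : NB 11 1 M24 := nb_of_card (by norm_num) (by rw [hcard]; norm_num) (by rw [hcard]; norm_num)
    fun R hR => (H715.Fpr.MathData.cn24_11 hR).1
  have n23 : NB 23 1 M24 := nb_of_card (by norm_num) (by rw [hcard]; norm_num) (by rw [hcard]; norm_num)
    fun R hR => (H715.Fpr.MathData.cn24_23 hR).1
  -- the value of `5544` at the elements of order 5
  obtain ⟨x, hx, hx1⟩ := exists_ne_one R (by rw [hR]; norm_num)
  obtain ⟨y, hy, hy1⟩ := exists_ne_one T (by rw [hT]; norm_num)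
  have vx : (a : M24 → ℂ) x = ((-1 : ℤ) : ℂ) := by
    have h1 := h5.loc.val a ((h5.mem a).2 (by simp)) x hx hx1 1 (one_mem _) (by rw [orderOf_one]; norm_num)
    rw [mul_one, h5.ε_a] at h1
    exact h1
  have vy : (a' : M24 → ℂ) y = ((-1 : ℤ) : ℂ) := by
    have h1 := D.val a' (by rw [h7.l_eq]; simp) y hy hy1 1 (one_mem _) (by rw [orderOf_one]; norm_num)
    rw [mul_one, h7.ε_a] at h1
    exact h1
  have cx : Nat.card (centralizer ({x} : Set M24)) = 60 := by
    rw [cent_eq R hR (by norm_num) hx hx1]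
    exact (H715.Fpr.MathData.cn24_5 hR).1
  have cy : Nat.card (centralizer ({y} : Set M24)) = 42 := by
    rw [cent_eq T hT (by norm_num) hy hy1]
    exact (H715.Fpr.MathData.cn24_7 hT).1
  have k3a : a ∉ B0 3 M24 := not_mem_of_class (m := 60) (d := 5544) (v := -1) (c := 4081120) hcard (by norm_num)
    (by rw [irr_one_eq_charDegree a.2, d5544]; norm_num) vx cx (by norm_num) (by norm_num) (by norm_num)
  have k3b : a' ∉ B0 3 M24 := not_mem_of_class (m := 42) (d := 1035) (v := -1) (c := 5834752) hcard (by norm_num)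
    (by rw [irr_one_eq_charDegree a'.2, d1035]; norm_num) vy cy (by norm_num) (by norm_num) (by norm_num)
  have e1771 : ∃ χ : IrrCharacter M24, charDegree (χ : M24 → ℂ) = 1771 := ⟨c, d1771⟩
  have e5544 : ∃ χ : IrrCharacter M24, charDegree (χ : M24 → ℂ) = 5544 := ⟨a, d5544⟩
  have e5796 : ∃ χ : IrrCharacter M24, charDegree (χ : M24 → ℂ) = 5796 := ⟨d, d5796⟩
  have e990 : ∃ χ : IrrCharacter M24, charDegree (χ : M24 → ℂ) = 990 := ⟨Θ, d990⟩
  have e1035 : ∃ χ : IrrCharacter M24, charDegree (χ : M24 → ℂ) = 1035 := ⟨a', d1035⟩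
  apply Row.of_lt
  intro p q hp hq hpq hpG hqG
  rw [hcard] at hpG hqG
  have hP := H852.IMMathieu.prime_cases hp [2, 2, 2, 2, 2, 2, 2, 2, 2, 2, 3, 3, 3, 5, 7, 11, 23] (by decide) hpG
    (by decide)
  have hQ := H852.IMMathieu.prime_cases hq [2, 2, 2, 2, 2, 2, 2, 2, 2, 2, 3, 3, 3, 5, 7, 11, 23] (by decide) hqG
    (by decide)
  have hP' : p = 2 ∨ p = 3 ∨ p = 5 ∨ p = 7 ∨ p = 11 ∨ p = 23 := by
    simp only [List.mem_cons, List.not_mem_nil, or_false] at hP
    omega
  have hQ' : q = 2 ∨ q = 3 ∨ q = 5 ∨ q = 7 ∨ q = 11 ∨ q = 23 := by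
    simp only [List.mem_cons, List.not_mem_nil, or_false] at hQ
    omega
  rcases hP' with rfl | rfl | rfl | rfl | rfl | rfl <;> rcases hQ' with rfl | rfl | rfl | rfl | rfl | rfl <;>
    first
      | (exfalso; revert hpq; decide)
      | skip
  · exact H642.PQ.not_same_of_mem (mem_of_nb hp n2 (by rw [d1035]; norm_num)) k3b
  · exact kl (b := 1) hcard e1035 hp hq n2 (by decide +kernel)
  · exact kl (b := 1) hcard e1771 hp hq n2 (by decide +kernel)
  · exact kl (b := 1) hcard e1771 hp hq n2 (by decide +kernel)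
  · exact kl (b := 1) hcard e1771 hp hq n2 (by decide +kernel)
  · exact fun h => core hq hp (by norm_num) h.symm (by rw [hcard]; norm_num) (by rw [hcard]; norm_num)
      (fun R hR => (H715.Fpr.MathData.cn24_5 hR).1) (by norm_num)
  · exact fun h => core hq hp (by norm_num) h.symm (by rw [hcard]; norm_num) (by rw [hcard]; norm_num)
      (fun R hR => (H715.Fpr.MathData.cn24_7 hR).1) (by norm_num)
  · exact fun h => H642.PQ.not_same_of_mem (mem_of_nb hq n11 (by rw [d1035]; norm_num)) k3b h.symm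
  · exact fun h => H642.PQ.not_same_of_mem (mem_of_nb hq n23 (by rw [d5544]; norm_num)) k3a h.symm
  · exact kl_mem (b := 1) hcard c5 d1771 hq (by decide +kernel)
  · exact fun h => kl (b := 1) hcard e1035 hq hp n11 (by decide +kernel) h.symm
  · exact fun h => kl (b := 1) hcard e990 hq hp n23 (by decide +kernel) h.symm
  · exact fun h => kl (b := 1) hcard e5796 hq hp n11 (by decide +kernel) h.symm
  · exact fun h => kl (b := 1) hcard e5544 hq hp n23 (by decide +kernel) h.symm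
  · exact fun h => kl (b := 1) hcard e990 hq hp n23 (by decide +kernel) h.symm

/-- **The row of `M24`.** -/
theorem row_m24 {S : Type u} [Group S] (h : Cfsg.Spor.IsoM24 S) : Row S := by
  obtain ⟨e⟩ := h
  exact H766.PQ.Row.of_equiv e.symm row24

end Cfsg.Agent.H968.PQ.Mathieu
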