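import Cfsg.Agent.H968.PQ.MSeventeen
import Cfsg.Agent.H426.PQ.MExact
import Cfsg.Agent.H241.Deg.MonFinal
import Cfsg.Agent.H101.PQ.MHN

/-!
# S4612, the Monster: the row (helper101, helper426, helper968)
-/

set_option autoImplicit false
set_option maxRecDepth 100000

namespace Cfsg.Agent.H968.PQ.M

open Cfsg Cfsg.Agent.H317.PQ Cfsg.Agent.H241.Mon Cfsg.Agent.H968.PQ.MSeventeen
open Cfsg.Agent.H715.Mon.Grp (SThree)

universe u

/-- the prime divisors of the order -/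
def pr : List ℕ := [2, 3, 5, 7, 11, 13, 17, 19, 23, 29, 31, 41, 47, 59, 71]

/-- the prime divisors of the order (helper626) -/
theorem primes {p : ℕ} (hp : p.Prime) (hd : p ∣ 808017424794512875886459904961710757005754368000000000) : p ∈ pr := by
  have e : 808017424794512875886459904961710757005754368000000000 =
      2 ^ 46 * (3 ^ 20 * (5 ^ 9 * (7 ^ 6 * (11 ^ 2 * (13 ^ 3 * (17 * (19 * (23 * (29 * (31 * (41 * (47 * (59 * 71))))))))))))) := by
    norm_num
  rw [e] at hd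
  have key : ∀ {a b : ℕ}, p ∣ a * b → p ∣ a ∨ p ∣ b := fun h => (hp.dvd_mul).1 h
  have kp : ∀ {a n : ℕ}, a.Prime → p ∣ a ^ n → p = a := fun ha h =>
    (Nat.prime_dvd_prime_iff_eq hp ha).1 (hp.dvd_of_dvd_pow h)
  have k1 : ∀ {a : ℕ}, a.Prime → p ∣ a → p = a := fun ha h => (Nat.prime_dvd_prime_iff_eq hp ha).1 h
  rcases key hd with h | hd
  · rw [kp (by norm_num) h]; decide
  rcases key hd with h | hd
  · rw [kp (by norm_num) h]; decide
  rcases key hd with h | hd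
  · rw [kp (by norm_num) h]; decide
  rcases key hd with h | hd
  · rw [kp (by norm_num) h]; decide
  rcases key hd with h | hd
  · rw [kp (by norm_num) h]; decide
  rcases key hd with h | hd
  · rw [kp (by norm_num) h]; decide
  rcases key hd with h | hd
  · rw [k1 (by norm_num) h]; decide
  rcases key hd with h | hd
  · rw [k1 (by norm_num) h]; decide
  rcases key hd with h | hd
  · rw [k1 (by norm_num) h]; decide
  rcases key hd with h | hd
  · rw [k1 (by norm_num) h]; decide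
  rcases key hd with h | hd
  · rw [k1 (by norm_num) h]; decide
  rcases key hd with h | hd
  · rw [k1 (by norm_num) h]; decide
  rcases key hd with h | hd
  · rw [k1 (by norm_num) h]; decide
  rcases key hd with h | hd
  · rw [k1 (by norm_num) h]; decide
  · rw [k1 (by norm_num) hd]; decide

/-- the pairs with 17, and (13, 17) -/
def LA : List (ℕ × ℕ) := [(13, 17), (17, 19), (17, 23), (17, 29), (17, 31), (17, 47), (17, 59), (17, 71)]

/-- the remaining pairs of exact primes (helper426) -/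
def LX : List (ℕ × ℕ) := [(47, 59), (41, 47), (31, 47), (19, 23), (19, 31), (19, 47), (19, 59), (19, 71), (23, 29), (23, 31),
  (23, 41), (23, 47), (23, 71)]

/-- the pairs of primes at most 7 -/
def LS : List (ℕ × ℕ) := [(2, 3), (2, 5), (2, 7), (3, 5), (3, 7), (5, 7)]

theorem all_pairs : ∀ p ∈ pr, ∀ q ∈ pr, p < q → ((p, q) ∈ H101.PQ.MHecke.L ∨ (p, q) ∈ LA ∨ (p, q) ∈ LX ∨ (p, q) ∈ LS) := by
  decide +kernel

theorem la (h3 : SThree.{0}) {p q : ℕ} (h : (p, q) ∈ LA) : ¬ Same p q Gam := by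
  simp only [LA, List.mem_cons, Prod.mk.injEq, List.not_mem_nil, or_false] at h
  rcases h with ⟨rfl, rfl⟩ | ⟨rfl, rfl⟩ | ⟨rfl, rfl⟩ | ⟨rfl, rfl⟩ | ⟨rfl, rfl⟩ | ⟨rfl, rfl⟩ | ⟨rfl, rfl⟩ | ⟨rfl, rfl⟩
  · exact m_13_17 h3
  · exact m_17_19
  · exact m_17_23
  · exact m_17_29
  · exact m_17_31 h3
  · exact m_17_47
  · exact m_17_59
  · exact m_17_71 h3

theorem isM : Spor.IsoM Gam := by
  obtain ⟨e⟩ := MonsterP.Equiv.equiv
  exact ⟨e.symm⟩

theorem ls {p q : ℕ} (h : (p, q) ∈ LS) : ¬ Same p q Gam := by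
  obtain ⟨h1, h2, h3, h4, h5, h6⟩ := H101.PQ.m_small isM
  simp only [LS, List.mem_cons, Prod.mk.injEq, List.not_mem_nil, or_false] at h
  rcases h with ⟨rfl, rfl⟩ | ⟨rfl, rfl⟩ | ⟨rfl, rfl⟩ | ⟨rfl, rfl⟩ | ⟨rfl, rfl⟩ | ⟨rfl, rfl⟩ <;> assumption

/-- 41 members of `B0 41`, 13 members of `B0 23` -/
theorem m_23_41 (B : Cfsg.Agent.H940.Eng.Base) : ¬ Same 23 41 Gam := by
  intro h
  have h1 : B0 23 Gam = B0 41 Gam := h
  have h2 : Nat.card (B0 41 Gam) = 40 + (41 - 1) / 40 :=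
    H426.PQ.MExact.card_B0' (e := 40) (by norm_num) (by norm_num) (by norm_num) (by norm_num)
      fun _ hP => (H715.Mon.Norm.M.relIndex isM (by norm_num) (by norm_num)
        (fun _ hx => H241.Deg.Mon.M.cent41 B isM hx) (by norm_num) (by norm_num) hP).1
  have h3 : Nat.card (B0 23 Gam) = 13 := H426.PQ.MExact.card23
  rw [← h1, h3] at h2
  norm_num at h2

open H426.PQ.MExact in
theorem lx (B : Cfsg.Agent.H940.Eng.Base) {p q : ℕ} (h : (p, q) ∈ LX) : ¬ Same p q Gam := by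
  simp only [LX, List.mem_cons, Prod.mk.injEq, List.not_mem_nil, or_false] at h
  rcases h with ⟨rfl, rfl⟩ | ⟨rfl, rfl⟩ | ⟨rfl, rfl⟩ | ⟨rfl, rfl⟩ | ⟨rfl, rfl⟩ | ⟨rfl, rfl⟩ | ⟨rfl, rfl⟩ | ⟨rfl, rfl⟩ |
    ⟨rfl, rfl⟩ | ⟨rfl, rfl⟩ | ⟨rfl, rfl⟩ | ⟨rfl, rfl⟩ | ⟨rfl, rfl⟩
  · exact m_47_59
  · exact m_41_47
  · exact m_31_47
  · exact m_19_23
  · exact m_19_31
  · exact m_19_47
  · exact m_19_59
  · exact m_19_71
  · exact m_23_29
  · exact m_23_31
  · exact m_23_41 B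
  · exact m_23_47
  · exact m_23_71

theorem row_of (h3 : SThree.{0}) (hX : ∀ p q : ℕ, (p, q) ∈ LX → ¬ Same p q Gam) {S : Type u} [Group S]
    (h : Spor.IsoM S) : Row S := by
  obtain ⟨e⟩ := h
  obtain ⟨e'⟩ := MonsterP.Equiv.equiv
  refine Cfsg.Agent.H766.PQ.Row.of_equiv (e.trans e').symm (Row.of_lt fun p q hp hq hlt hpG hqG => ?_)
  have hc : Nat.card Gam = 808017424794512875886459904961710757005754368000000000 := H101.PQ.MHecke.card_G
  have hpG : p ∣ Nat.card Gam := hpG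
  have hqG : q ∣ Nat.card Gam := hqG
  rw [hc] at hpG hqG
  rcases all_pairs p (primes hp hpG) q (primes hq hqG) hlt with h | h | h | h
  · exact H101.PQ.MHecke.not_same_model h
  · exact la h3 h
  · exact hX p q h
  · exact ls h

/-- **Row `M` of S4612.** -/
theorem row_m {S : Type u} [Group S] (B : Cfsg.Agent.H940.Eng.Base) (h : Spor.IsoM S) : Row S :=
  row_of (H715.Mon.Grp.sThree B) (fun _ _ hpq => lx B hpq) h

end Cfsg.Agent.H968.PQ.M
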